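import Cfsg.Agent.VecC.Odd

/-! A vector with abelian stabilizer for groups of odd order. -/

set_option autoImplicit false

namespace Cfsg.Lib.VecC

open Subgroup Cfsg.Lib.Base Cfsg.Lib.Base.Setup Cfsg.Lib.KCl

universe u

theorem lt_of_two {t X m v : ℕ} (h1 : t ≤ X) (h2 : X ^ 2 < v) (h3 : m ^ 2 ≤ v) : t * m < v :=
  (Nat.mul_le_mul_right m h1).trans_lt (lt_of_pow_lt_pow_left₀ 2 (Nat.zero_le _) (by
    calc _ = X ^ 2 * m ^ 2 := by ring
      _ ≤ X ^ 2 * v := Nat.mul_le_mul_left _ h3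
      _ < v * v := Nat.mul_lt_mul_of_pos_right h2 (by omega)
      _ = _ := by ring))

theorem lt_of_four {t X m v : ℕ} (h1 : t ≤ X) (h2 : X ^ 4 < v) (h3 : m ^ 4 ≤ v ^ 3) : t * m < v :=
  (Nat.mul_le_mul_right m h1).trans_lt (lt_of_pow_lt_pow_left₀ 4 (Nat.zero_le _) (by
    calc _ = X ^ 4 * m ^ 4 := by ring
      _ ≤ X ^ 4 * v ^ 3 := Nat.mul_le_mul_left _ h3
      _ < v * v ^ 3 := Nat.mul_lt_mul_of_pos_right h2 (pow_pos (by omega) 3)
      _ = _ := by ring))

theorem num_ab {q e : ℕ} (hq : 7 ≤ q) (h5 : e = 5 → 11 ≤ q) (h1 : 5 ≤ e) (h6 : e ≠ 6)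
    (h2 : e < 81) : ((q - 1) * (e * e)) ^ 2 < q ^ e := by
  have key : ∀ t < 79, 5 ≤ t → (t + 2) ^ 4 ≤ 7 ^ t := by decide +kernel
  obtain ⟨t, rfl⟩ := Nat.exists_eq_add_of_le' (by omega : 2 ≤ e)
  have h3 : (t + 2) ^ 4 ≤ q ^ t := by
    by_cases h : t = 3
    · subst h
      exact le_trans (by norm_num) (Nat.pow_le_pow_left (h5 rfl) 3)
    · exact (key t (by omega) (by omega)).trans (Nat.pow_le_pow_left hq t)
  calc _ = (t + 2) ^ 4 * (q - 1) ^ 2 := by ring
    _ < (t + 2) ^ 4 * q ^ 2 := Nat.mul_lt_mul_of_pos_left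
      (Nat.pow_lt_pow_left (by omega) (by norm_num)) (by positivity)
    _ ≤ _ := by rw [pow_add q]; exact Nat.mul_le_mul_right _ h3

theorem num_27 {q : ℕ} (hq : 7 ≤ q) : ((q - 1) * (27 * 27) * 91) ^ 4 < q ^ 27 := by
  calc _ = (27 * 27 * 91) ^ 4 * (q - 1) ^ 4 := by ring
    _ < (27 * 27 * 91) ^ 4 * q ^ 4 := Nat.mul_lt_mul_of_pos_left
      (Nat.pow_lt_pow_left (by omega) (by norm_num)) (by positivity)
    _ ≤ q ^ 23 * q ^ 4 := Nat.mul_le_mul_right _ (le_trans (by norm_num) (Nat.pow_le_pow_left hq 23))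
    _ = _ := by ring

theorem num_big {q e : ℕ} (hq : 7 ≤ q) (he : 81 ≤ e) : ((q - 1) * e ^ 8) ^ 4 < q ^ e := by
  have := pow_bound (a := 1) (n := 81) (by norm_num) (by norm_num : 3 ≤ 7) hq (by norm_num) he
  rw [one_mul] at this
  exact (Nat.pow_lt_pow_left (Nat.mul_lt_mul_of_pos_right (by omega) (by positivity))
    (by norm_num)).trans_le this

theorem num_cases {r k m e : ℕ} (hr : r.Prime) (h1 : r ^ k = m * m) (h2 : m * m ∣ e * e)
    (h3 : 1 < r ^ k) (ho : Odd e) (he : e < 81) : k ∣ 4 ∨ (e = 27 ∧ r ^ k = 729) := by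
  have k0 : k ≠ 0 := by
    rintro rfl
    simp at h3
  obtain ⟨i, rfl, rfl⟩ := exists_mul_eq hr k0 ((sq m).trans h1.symm)
  rw [← sq, ← sq] at h2
  replace h2 := (Nat.pow_dvd_pow_iff two_ne_zero).1 h2
  have h4 : r ≠ 2 := by
    rintro rfl
    exact Nat.not_even_iff_odd.2 ho (even_iff_two_dvd.2
      ((dvd_pow_self 2 (by rintro rfl; simp at k0)).trans h2))
  have h5 : 3 ≤ r := by have := hr.two_le; omega
  have h6 := (Nat.le_of_dvd ho.pos h2).trans_lt he
  have h7 : i < 4 := (Nat.pow_lt_pow_iff_right (by norm_num : 1 < 3)).1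
    ((Nat.pow_le_pow_left h5 i).trans_lt h6)
  interval_cases i
  · simp at k0
  · exact Or.inl (by norm_num)
  · exact Or.inl (by norm_num)
  · have h8 : r < 5 := lt_of_pow_lt_pow_left₀ 3 (by norm_num) (h6.trans (by norm_num))
    have h9 : r = 3 := by
      interval_cases r
      · rfl
      · exact absurd hr (by norm_num)
    subst h9
    obtain ⟨c, rfl⟩ := h2
    obtain ⟨d, hd⟩ := ho
    exact Or.inr ⟨by omega, by norm_num⟩

section Setup

variable {K : Type*} {V Γ : Type u} [Field K] [AddCommGroup V] [Module K V] [Group Γ]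
  [DistribMulAction Γ V] [Nontrivial V] [Finite K] [Finite V] [Finite Γ] [Group.IsSolvable Γ]

theorem odd_setup (S : Setup K V Γ) (ho : Odd S.U.index) (hV : Odd (Nat.card V)) :
    ∃ v : V, v ≠ 0 ∧ Lv (MulAction.stabilizer Γ v) V 1 := by
  suffices h : 0 < {v : V | v ≠ 0 ∧ ∀ g ∈ D (⊤ : Subgroup Γ) 1, g • v = v → g = 1}.ncard by
    obtain ⟨v, hv, h1⟩ := Set.nonempty_of_ncard_ne_zero h.ne'
    exact ⟨v, hv, Lv.of_le_bot fun g hg => h1 g (D_mono le_top 1 hg) (D_le _ _ hg)⟩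
  obtain ⟨N, Ω, _, _, _, pr, B, e, hN, s, hB, h1, h2, h4, h5⟩ := exists_data S
  obtain ⟨h6, h7⟩ := odd_e hN s hB ho h1
  have h8 := pow_le_card_V h4
  have h0 : 0 < Nat.card V := Nat.card_pos
  have hq : ∀ r, r.Prime → r ∣ e → 2 * r < Nat.card K := fun r hr hd => by
    refine lt_card_K (Nat.Coprime.mul_dvd_of_dvd_of_dvd
      (Nat.coprime_two_left.2 (h6.of_dvd_nat hd)) ?_ (h5 r hr hd))
    rw [Module.natCard_eq_pow_finrank (K := K)] at hV
    rw [Nat.card_units, ← even_iff_two_dvd]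
    exact Nat.Odd.sub_odd (hV.of_dvd_nat (dvd_pow_self _ (by omega))) odd_one
  have four : ∀ X, Nat.card (D (⊤ : Subgroup Γ) 1) ≤ X → X ^ 4 < Nat.card K ^ e →
      0 < {v : V | v ≠ 0 ∧ ∀ g ∈ D (⊤ : Subgroup Γ) 1, g • v = v → g = 1}.ncard := fun X a b =>
    lt_card_free S _ (by simpa using lt_of_four (m := 1) a (b.trans_le h8) (Nat.one_le_pow _ _ h0))
      fun g hg hU => lt_of_four a (b.trans_le h8) (fx_A hN s hB (D_one_le_A S hg) hU)
  by_cases e1 : e = 1
  · rw [e1] at h1 h8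
    rw [pow_one] at h8
    have := (Nat.card_eq_one_iff_unique.1 h1).1
    have h9 := D_le_N hN s hB (d := 1) (fun _ _ _ => Subsingleton.elim _ _) le_rfl
    have h10 := card_le_of_le h9
    rw [card_N hN s, h1] at h10
    have h11 : 0 < Nat.card K := Nat.card_pos
    exact lt_card_free S _ (by omega) fun g hg hU =>
      absurd ((s.eq_zero g (h9 hg)).1 (Subsingleton.elim _ _)) hU
  have h9 : 7 ≤ Nat.card K := by
    obtain ⟨r, hr, hd⟩ := Nat.exists_prime_and_dvd e1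
    have a1 := hq r hr hd
    obtain ⟨c, a2⟩ := h6.of_dvd_nat hd
    have a3 := hr.two_le
    omega
  by_cases c1 : 81 ≤ e
  · exact four _ ((card_le_of_le (D_one_le_A S)).trans (card_A_le hN s hB h1)) (num_big h9 c1)
  by_cases c2 : e = 27 ∧ Irr (⊤ : Subgroup Γ) Ω
  · obtain ⟨rfl, hi⟩ := c2
    have a1 := @card_odd (Im (⊤ : Subgroup Γ) Ω) Ω _ _ _ _ (imAct _ Ω)
      (isSolvable_im inferInstance) (odd_im hN s hB ho fun _ hg => hg) (Irr.im hi) h1
    refine four _ ((card_le_mul hN s hB (D_one_le_A S) _ fun g hg => ?_).trans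
      (Nat.mul_le_mul (by rw [h1]) a1)) (num_27 h9)
    exact ⟨_, D_map ((MulAction.toPermHom (⊤ : Subgroup Γ) Ω).rangeRestrict.comp
      topEquiv.symm.toMonoidHom) (fun _ _ => mem_top _) 1 g hg, rfl⟩
  have h10 : D ⊤ 1 ≤ N := D_le_N hN s hB (lv_of_cr (hN.symp s hB).cr fun T hT hi => by
    let _ := resAct hT
    obtain ⟨r, k, hr, a1⟩ := card_eq_pow hi
    obtain ⟨m, a2⟩ := (hN.symp s hB).card_inv hT
    have := hi.1
    rcases num_cases hr (a1.symm.trans a2) (a2 ▸ h1 ▸ T.card_addSubgroup_dvd_card)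
      (a1 ▸ Finite.one_lt_card) h6 (not_le.1 c1) with a3 | ⟨a3, a4⟩
    · exact lv_of_im (@lv_odd (Im (⊤ : Subgroup Γ) T) T _ _ _ _ (imAct _ T)
        (isSolvable_im inferInstance) (odd_res hN s hB ho hT) (Irr.im hi) r k hr a3 a1)
    · have a5 : T = ⊤ := AddSubgroup.eq_top_of_card_eq T (by rw [a1, a4, h1, a3])
      refine absurd ⟨a3, T.subtype_injective.nontrivial, fun U hU => ?_⟩ c2
      refine (hi.2 (U.addSubgroupOf T) fun g v hv => hU g v hv).imp (fun a6 => ?_) fun a6 => ?_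
      · rwa [AddSubgroup.addSubgroupOf_eq_bot, a5, disjoint_top] at a6
      · rwa [AddSubgroup.addSubgroupOf_eq_top, a5, top_le_iff] at a6) le_rfl
  have h11 := card_le_of_le h10
  rw [card_N hN s, h1] at h11
  obtain ⟨c, hc⟩ := h6
  have h12 := (num_ab h9 (fun e5 => hq 5 Nat.prime_five (e5 ▸ dvd_rfl)) (by omega) (by omega)
    (not_le.1 c1)).trans_le h8
  exact lt_card_free S _ (by simpa using lt_of_two (m := 1) h11 h12 h0)
    fun g hg hU => lt_of_two h11 h12 (fx_N hN (h10 hg) hU)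

end Setup

theorem odd_aux (n : ℕ) : ∀ (G V : Type u) [Group G] [Finite G] [AddCommGroup V] [Finite V]
    [DistribMulAction G V], Nat.card V = n → Group.IsSolvable G → Odd (Nat.card G) →
      Odd (Nat.card V) → Irr G V → Ty G V fun _ : Fin 2 => 1 := by
  induction n using Nat.strong_induction_on with
  | _ n ih =>
  intro G V _ _ _ _ _ hn hG ho hV h
  have := h.1
  by_cases hpr : Prim G V
  · obtain ⟨K, _, _, _, Γ, _, _, _, _, _, S, h1, φ, hφ⟩ := hpr.exists_setup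
    obtain ⟨v, hv, h2⟩ := odd_setup S (ho.of_dvd_nat h1) hV
    have h3 : Lv (MulAction.stabilizer G v) V 1 := h2.comp φ hφ fun g hg => (hφ g _).trans hg
    refine ⟨![v, -v], fun i j g hg => ?_, fun i => ?_⟩
    · fin_cases i <;> fin_cases j
      · rfl
      · exact absurd hg (smul_ne_neg ho hV hv g)
      · exact absurd (inv_smul_eq_iff.2 (Eq.symm hg)) (smul_ne_neg ho hV hv g⁻¹)
      · rfl
    · fin_cases i
      · exact h3
      · exact h3.anti (stab_neg v).le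
  obtain ⟨H, W, W', hH, hW, hd, hout, hW0⟩ := exists_blocks h hpr
  let _ := resAct hW
  exact odd_step hG ho hH h hW hd hout hW0 (ih _ (hn ▸ card_block_lt hH.1 hd hout hW0) H W rfl
    inferInstance (ho.of_dvd_nat H.card_subgroup_dvd_card)
    (hV.of_dvd_nat W.card_addSubgroup_dvd_card) (irr_block h hW hd hout hW0))

theorem exists_one {G V : Type u} [Group G] [Finite G] [AddCommGroup V] [Finite V]
    [DistribMulAction G V] (hG : Group.IsSolvable G) (ho : Odd (Nat.card G))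
    (hV : Odd (Nat.card V)) (h : CR G V) : ∃ v : V, Lv (MulAction.stabilizer G v) V 1 := by
  refine exists_vec h fun T hT hi => ?_
  let _ := resAct hT
  obtain ⟨z, -, h1⟩ := odd_aux _ G T rfl hG ho (hV.of_dvd_nat T.card_addSubgroup_dvd_card) hi
  exact ⟨z 0, (z 0).2, fun g hg w hw => congrArg Subtype.val
    ((h1 0).anti (fun a ha => Subtype.ext ha) g hg ⟨w, hw⟩)⟩

end Cfsg.Lib.VecC
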