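import Cfsg.Agent.VecC.Step
import Cfsg.Agent.Perm.Huppert

/-! Fixed points in primitive solvable linear groups. -/

set_option autoImplicit false

namespace Cfsg.Lib.VecC

open Subgroup Cfsg.Lib.Base Cfsg.Lib.Base.Setup Cfsg.Lib.KCl
open scoped commutatorElement

universe u

section Gen

variable {G V : Type*} [Group G] [AddCommGroup V] [DistribMulAction G V]

/-- The fixed vectors of a group element. -/
def Fx (V : Type*) [AddCommGroup V] [DistribMulAction G V] (g : G) : AddSubgroup V where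
  carrier := {v | g • v = v}
  zero_mem' := smul_zero g
  add_mem' := fun {a b} (ha : g • a = a) (hb : g • b = b) => by
    change g • (a + b) = a + b
    rw [smul_add, ha, hb]
  neg_mem' := fun {a} (ha : g • a = a) => by
    change g • (-a) = -a
    rw [smul_neg, ha]

theorem card_fx_sq [Finite V] (g b : G) :
    Nat.card (Fx V g) ^ 2 ≤ Nat.card (Fx V ⁅g, b⁆) * Nat.card V := by
  let f : Fx V g × Fx V g →+ V := AddMonoidHom.mk' (fun x => x.1 - b • (x.2 : V)) fun x y => by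
    simp only [Prod.fst_add, Prod.snd_add, AddSubgroup.coe_add, smul_add]
    abel
  rw [sq, ← Nat.card_prod, ← f.ker.card_mul_index, AddSubgroup.index_ker]
  refine Nat.mul_le_mul (Nat.card_le_card_of_injective (fun x => ⟨x.1.1, ?_⟩) fun x y e => ?_)
    f.range.card_le_card_addGroup
  · have h1 : (x.1.1 : V) = b • (x.1.2 : V) := sub_eq_zero.1 x.2
    have h2 : g⁻¹ • (x.1.2 : V) = x.1.2 := inv_smul_eq_iff.2 x.1.2.2.symm
    change ⁅g, b⁆ • (x.1.1 : V) = x.1.1
    rw [commutatorElement_def, mul_smul, mul_smul, mul_smul, h1, inv_smul_smul, h2, ← h1]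
    exact x.1.1.2
  · have h1 : (x.1.1 : V) = b • (x.1.2 : V) := sub_eq_zero.1 x.2
    have h2 : (y.1.1 : V) = b • (y.1.2 : V) := sub_eq_zero.1 y.2
    have h3 : (x.1.1 : V) = y.1.1 := Subtype.mk.inj e
    exact Subtype.ext (Prod.ext (Subtype.ext h3)
      (Subtype.ext (MulAction.injective b (h1.symm.trans (h3.trans h2)))))

theorem exists_ineq {G V : Type*} [Group G] [Finite G] [MulAction G V] [Finite V] (F : Set V)
    {k : ℕ} (h : k * Nat.card G < F.ncard) :
    ∃ z : Fin (k + 1) → V, (∀ i, z i ∈ F) ∧ ∀ i j (g : G), g • z i = z j → i = j := by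
  classical
  let π : V → MulAction.orbitRel.Quotient G V := Quotient.mk _
  have h1 := Finset.card_le_mul_card_image (f := π) (Set.toFinite F).toFinset (Nat.card G)
    fun a _ => by
      rw [← Set.ncard_coe_finset]
      refine le_trans (Set.ncard_le_ncard (t := MulAction.orbit G a.out) fun x hx => ?_)
        (Nat.card_le_card_of_surjective _ (Set.rangeFactorization_surjective))
      exact Quotient.exact ((Finset.mem_filter.1 hx).2.trans a.out_eq.symm)
  rw [← Set.ncard_eq_toFinset_card] at h1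
  have h2 : k + 1 ≤ (Finset.image π (Set.toFinite F).toFinset).card :=
    lt_of_mul_lt_mul_left (a := Nat.card G) (by linarith) (Nat.zero_le _)
  let c := fun i => (Finset.image π (Set.toFinite F).toFinset).equivFin.symm (Fin.castLE h2 i)
  choose z hz1 hz2 using fun i => Finset.mem_image.1 (c i).2
  refine ⟨z, fun i => (Set.Finite.mem_toFinset _).1 (hz1 i), fun i j g e => ?_⟩
  have h3 : π (z j) = π (z i) := Quotient.sound ⟨g, e⟩
  rw [hz2, hz2] at h3
  exact (Fin.castLE_injective h2 (Equiv.injective _ (Subtype.ext h3))).symm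

theorem ty_A [Nontrivial V] (h : Lv (⊤ : Subgroup G) V 6) : Ty G V ![6, 6] := by
  obtain ⟨v, hv⟩ := exists_ne (0 : V)
  refine ⟨![0, v], fun i j g e => ?_, fun i => by fin_cases i <;> exact h.anti le_top⟩
  fin_cases i <;> fin_cases j
  · rfl
  · exact absurd ((smul_zero g).symm.trans e).symm hv
  · exact absurd ((smul_eq_zero_iff_eq g).1 e) hv
  · rfl

theorem lv_semilinear {F : Type*} [Field F] [Finite F] (e : V ≃+ F)
    (he : ∀ g : G, ∃ (a : F) (σ : F ≃+* F), ∀ v : V, e (g • v) = a * σ (e v)) :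
    Lv (⊤ : Subgroup G) V 2 := by
  have key := D_rel (fun (g : G) (σ : RingAut F) => ∃ a : F, ∀ v : V, e (g • v) = a * σ (e v))
    ⟨1, by simp⟩
    (fun a σ c τ ⟨m, hm⟩ ⟨n, hn⟩ => ⟨m * σ n, fun x => by
      rw [mul_smul, hm, hn, map_mul, mul_assoc]; rfl⟩)
    (fun a σ ⟨m, hm⟩ => ⟨σ.symm m⁻¹, fun x => by
      have h1 := hm (a⁻¹ • x)
      have h2 := hm (a⁻¹ • e.symm 1)
      rw [smul_inv_smul] at h1 h2
      have h3 : m ≠ 0 := fun h3 => by simp [h3] at h2
      change _ = _ * σ.symm _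
      rw [h1, ← map_mul, inv_mul_cancel_left₀ h3, RingEquiv.symm_apply_apply]⟩)
    (K := ⊤) (L := ⊤) (fun g _ => (he g).elim fun a ⟨σ, hσ⟩ => ⟨σ, trivial, a, hσ⟩) 1
  obtain ⟨γ, hγ⟩ := exists_gen F
  have h1 : ∀ σ : RingAut F, ∃ i : ℕ, σ γ = γ ^ i := fun σ => by
    obtain ⟨i, hi⟩ := hγ (Units.map (σ : F →* F) γ)
    exact ⟨i, by rw [← Units.val_pow_eq_pow_val, hi]; rfl⟩
  have h2 : D (⊤ : Subgroup (RingAut F)) 1 ≤ ⊥ := D_succ_le fun σ _ τ _ =>
    commutatorElement_eq_one_iff_mul_comm.2 (RingEquiv.ext fun x => by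
      change σ (τ x) = τ (σ x)
      by_cases hx : x = 0
      · simp [hx]
      obtain ⟨n, hn⟩ := hγ (Units.mk0 x hx)
      obtain ⟨i, hi⟩ := h1 σ
      obtain ⟨j, hj⟩ := h1 τ
      rw [← Units.val_mk0 hx, ← hn, Units.val_pow_eq_pow_val]
      simp only [map_pow, hi, hj]
      ring)
  refine Lv.succ fun a ha b hb x => ?_
  obtain ⟨σ, hσ, m, hm⟩ := key a ha
  obtain ⟨τ, hτ, n, hn⟩ := key b hb
  rw [mem_bot.1 (h2 hσ)] at hm
  rw [mem_bot.1 (h2 hτ)] at hn
  have h3 : ∀ y : V, a • b • y = b • a • y := fun y => e.injective (by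
    rw [hm, hn, hn, hm]
    exact mul_left_comm _ _ _)
  rw [commutatorElement_def, mul_smul, mul_smul, mul_smul, h3, smul_inv_smul, smul_inv_smul]

end Gen

theorem lv_of_trans {G V : Type u} [Group G] [Finite G] [AddCommGroup V] [Finite V]
    [DistribMulAction G V] [FaithfulSMul G V] (hG : Group.IsSolvable G) (h : Irr G V)
    (ht : ∀ v w : V, v ≠ 0 → w ≠ 0 → ∃ g : G, g • v = w) : Lv (⊤ : Subgroup G) V 6 := by
  obtain ⟨p, hp, -, hV⟩ := h.exists_prime
  have := Fact.mk hp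
  have := h.1
  let _ : Module (ZMod p) V := AddCommGroup.zmodModule hV
  have : SMulCommClass G (ZMod p) V :=
    ⟨fun g c v => ZMod.map_smul (DistribSMul.toAddMonoidHom V g) c v⟩
  rcases Perm.VTrans.huppert (ρ := DistribMulAction.toModuleAut (ZMod p) V) ht
    (fun a b e => FaithfulSMul.eq_of_smul_eq_smul (α := V) fun v => LinearEquiv.congr_fun e v) hG
    with ⟨F, _, _, e, he⟩ | h1
  · exact (lv_semilinear e he).mono (by norm_num)
  · have h2 : Nat.card V ≤ 529 := by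
      simp only [Set.mem_insert_iff, Set.mem_singleton_iff] at h1
      omega
    exact (lv_aux _ G V rfl (by omega) hG h).mono (dd_mono h2)

section Setup

variable {K V : Type*} {Γ : Type u} [Field K] [AddCommGroup V] [Module K V] [Group Γ]
  [DistribMulAction Γ V] [Nontrivial V] [Finite K] [Finite V] [Finite Γ] {S : Setup K V Γ}
  {N : Subgroup Γ}

omit [Nontrivial V] [Finite K] in
theorem lt_card_free (S : Setup K V Γ) (M : Subgroup Γ) {a : ℕ} (h0 : Nat.card M + a < Nat.card V)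
    (h : ∀ g ∈ M, g ∉ S.U → Nat.card M * Nat.card (Fx V g) + a < Nat.card V) :
    a < {v : V | v ≠ 0 ∧ ∀ g ∈ M, g • v = v → g = 1}.ncard := by
  classical
  have := Fintype.ofFinite M
  let C : M → Set V := fun g => if (g : Γ) ∈ S.U then {0} else Fx V (g : Γ)
  obtain ⟨g₀, h1⟩ := Finite.exists_max fun g => (C g).ncard
  have h2 : Nat.card M * (C g₀).ncard + a < Nat.card V := by
    by_cases hg : (g₀ : Γ) ∈ S.U
    · rwa [show C g₀ = {0} from if_pos hg, Set.ncard_singleton, mul_one]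
    · rw [show C g₀ = Fx V (g₀ : Γ) from if_neg hg]
      exact h _ g₀.2 hg
  have h3 : {v : V | v ≠ 0 ∧ ∀ g ∈ M, g • v = v → g = 1}ᶜ ⊆ ⋃ g, C g := fun v hv => by
    by_cases h4 : v = 0
    · exact Set.mem_iUnion.2 ⟨1, by rw [show C 1 = {0} from if_pos (one_mem _)]; exact h4⟩
    simp only [Set.mem_compl_iff, Set.mem_ofPred_eq, not_and, not_forall] at hv
    obtain ⟨g, hg, h5, h6⟩ := hv h4
    exact Set.mem_iUnion.2 ⟨⟨g, hg⟩, by
      rw [show C ⟨g, hg⟩ = Fx V g from if_neg fun e => h6 (eq_one_of_smul e h4 h5)]; exact h5⟩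
  have h4 := (Set.ncard_le_ncard h3).trans ((Set.ncard_iUnion_le_of_fintype C).trans
    (Finset.sum_le_card_nsmul _ _ _ fun g _ => h1 g))
  rw [smul_eq_mul, Finset.card_univ, ← Nat.card_eq_fintype_card] at h4
  have h5 := Set.ncard_add_ncard_compl {v : V | v ≠ 0 ∧ ∀ g ∈ M, g • v = v → g = 1}
  omega

omit [Finite V] [Finite Γ] in
theorem index_A_lt [FaithfulSMul Γ V] (S : Setup K V Γ) : S.A.index < Nat.card K := by
  have := Fintype.ofFinite K
  obtain ⟨p, -, f, hp, hK⟩ := FiniteField.card' K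
  rw [← Nat.card_eq_fintype_card] at hK
  exact (index_A_le S hp hK).trans_lt (hK ▸ Nat.lt_pow_self hp.one_lt)

variable (h : Big S N) {Ω : Type*} [AddCommGroup Ω] [Finite Ω]
  [DistribMulAction (⊤ : Subgroup Γ) Ω] {pr : Γ → Ω} (s : Sec N S.U ⊤ pr)
  {B : Ω →+ Ω →+ Additive Kˣ} (hB : ∀ a ∈ N, ∀ b ∈ N, B (pr a) (pr b) = Additive.ofMul (S.cm a b))

omit [Nontrivial V] [Finite K] [Finite Γ] in
include h in
theorem fx_N {c : Γ} (hc : c ∈ N) (hU : c ∉ S.U) : Nat.card (Fx V c) ^ 2 ≤ Nat.card V := by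
  obtain ⟨b, hb, h1⟩ : ∃ b ∈ N, b * c ≠ c * b := by
    by_contra h1
    push Not at h1
    exact hU (h.cent c (h.le_A hc) h1)
  have h2 : Fx V ⁅c, b⁆ = ⊥ := eq_bot_iff.2 fun v hv => by
    by_contra h3
    exact h1 (commutatorElement_eq_one_iff_mul_comm.1
      (eq_one_of_smul (h.comm c hc b hb) h3 hv)).symm
  simpa [h2] using card_fx_sq (V := V) c b

omit [Finite Γ] in
include h s hB in
theorem fx_A {g : Γ} (hg : g ∈ S.A) (hU : g ∉ S.U) : Nat.card (Fx V g) ^ 4 ≤ Nat.card V ^ 3 := by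
  have h0 : 0 < Nat.card V := Nat.card_pos
  by_cases hN : g ∈ N
  · calc _ = (Nat.card (Fx V g) ^ 2) ^ 2 := by ring
      _ ≤ Nat.card V ^ 2 := Nat.pow_le_pow_left (fx_N h hN hU) 2
      _ ≤ _ := Nat.pow_le_pow_right h0 (by norm_num)
  obtain ⟨ω, h1⟩ := not_forall.1 (mt (h.smul_eq_iff s hB ⟨g, trivial⟩ hg).1 hN)
  obtain ⟨a, ha, rfl⟩ := s.surj ω
  have h2 := h.normal.conj_mem a ha g
  have h3 : ⁅g, a⁆ ∈ N := mul_mem h2 (inv_mem ha)
  have h4 := fx_N h h3 fun e => h1 (by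
    have := (s.eq_zero _ h3).2 e
    rw [commutatorElement_def, s.mul _ h2 _ (inv_mem ha), s.inv ha, add_neg_eq_zero] at this
    exact (s.conj ⟨g, trivial⟩ a ha).symm.trans this)
  calc _ = (Nat.card (Fx V g) ^ 2) ^ 2 := by ring
    _ ≤ (Nat.card (Fx V ⁅g, a⁆) * Nat.card V) ^ 2 := Nat.pow_le_pow_left (card_fx_sq g a) 2
    _ = Nat.card (Fx V ⁅g, a⁆) ^ 2 * Nat.card V ^ 2 := by ring
    _ ≤ Nat.card V * Nat.card V ^ 2 := Nat.mul_le_mul_right _ h4
    _ = _ := by ring

omit [Finite K] [Finite V] [Finite Γ] [Finite Ω] in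
include h s in
theorem card_N : Nat.card N = (Nat.card K - 1) * Nat.card Ω := by
  rw [← s.card_mul h.U_le le_rfl ⊤ fun ω => ⟨fun _ => s.surj ω, fun _ => trivial⟩,
    AddSubgroup.card_top, card_U, mul_comm]

omit [Finite V] in
include h s hB in
theorem card_le_mul {M : Subgroup Γ} (hM : M ≤ S.A) (Y : Subgroup (Equiv.Perm Ω))
    (hY : ∀ g ∈ M, MulAction.toPerm (⟨g, trivial⟩ : (⊤ : Subgroup Γ)) ∈ Y) :
    Nat.card M ≤ (Nat.card K - 1) * Nat.card Ω * Nat.card Y := by
  let ψ : M →* Equiv.Perm Ω := (MulAction.toPermHom (⊤ : Subgroup Γ) Ω).comp (inclusion le_top)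
  rw [← ψ.ker.card_mul_index, index_ker, ← card_N h s]
  refine Nat.mul_le_mul (Nat.card_le_card_of_injective (fun g => ⟨g.1.1,
    (h.smul_eq_iff s hB ⟨g.1.1, trivial⟩ (hM g.1.2)).1 (Equiv.ext_iff.1 g.2)⟩) fun a b e =>
      Subtype.ext (Subtype.ext (Subtype.mk.inj e))) (card_le_of_le ?_)
  rintro _ ⟨g, rfl⟩
  exact hY g g.2

end Setup

end Cfsg.Lib.VecC
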