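import Cfsg.Agent.VecC.PrimA

/-! Small irreducible linear groups of odd order. -/

set_option autoImplicit false

namespace Cfsg.Lib.VecC

open Subgroup Cfsg.Lib.Base Cfsg.Lib.Base.Setup Cfsg.Lib.KCl

universe u

section Nine

variable {G V : Type*} [Group G] [AddCommGroup V] [DistribMulAction G V] [Finite V]

omit [Finite V] in
theorem smul_ne_neg (hG : Odd (Nat.card G)) (hV : Odd (Nat.card V)) {v : V} (hv : v ≠ 0) (g : G) :
    g • v ≠ -v := fun e => by
  have h1 : g • v = v := smul_eq_of_odd hG (by rw [e, smul_neg, e, neg_neg])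
  refine hv (AddMonoid.addOrderOf_eq_one_iff.1 (Nat.eq_one_of_dvd_coprimes
    (Nat.coprime_two_left.2 hV) (addOrderOf_dvd_of_nsmul_eq_zero ?_) (addOrderOf_dvd_natCard v)))
  rw [two_nsmul, add_eq_zero_iff_eq_neg, ← e, h1]

omit [Finite V] in
theorem stab_neg (v : V) : MulAction.stabilizer G (-v) = MulAction.stabilizer G v := by
  ext g
  simp [MulAction.mem_stabilizer_iff]

theorem exists_fix_nine (hG : Odd (Nat.card G)) (hV : Nat.card V = 9) :
    ∃ v : V, v ≠ 0 ∧ ∀ g : G, g • v = v := by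
  by_contra h
  have h0 : {v : V | v ≠ 0}.ncard = 8 := (card_ne_zero_set V).trans (by rw [hV])
  have h1 : ∀ v : V, v ≠ 0 → MulAction.orbit G v ⊆ {v : V | v ≠ 0} := by
    rintro v hv _ ⟨g, rfl⟩
    exact fun e => hv ((smul_eq_zero_iff_eq g).1 e)
  have h2 : ∀ v : V, v ≠ 0 → (MulAction.orbit G v ∪ MulAction.orbit G (-v)).ncard =
      2 * (MulAction.orbit G v).ncard := fun v hv => by
    rw [Set.ncard_union_eq, ← MulAction.index_stabilizer, ← MulAction.index_stabilizer, stab_neg,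
      two_mul]
    refine Set.disjoint_left.2 ?_
    rintro _ ⟨a, rfl⟩ ⟨b, hb⟩
    exact smul_ne_neg hG (by rw [hV]; decide) hv (b⁻¹ * a)
      (by rw [mul_smul, inv_smul_eq_iff]; exact hb.symm)
  have h3 : ∀ v : V, v ≠ 0 → (MulAction.orbit G v).ncard = 3 := fun v hv => by
    have a1 := Set.ncard_le_ncard (Set.union_subset (h1 v hv) (h1 _ (neg_ne_zero.2 hv)))
    rw [h2 v hv, h0, ← MulAction.index_stabilizer] at a1
    obtain ⟨k, a2⟩ := hG.of_dvd_nat (MulAction.stabilizer G v).index_dvd_card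
    have a3 : (MulAction.stabilizer G v).index ≠ 1 := fun e =>
      h ⟨v, hv, fun g => (index_eq_one.1 e).ge trivial⟩
    rw [← MulAction.index_stabilizer]
    omega
  obtain ⟨v, hv⟩ := Set.nonempty_of_ncard_ne_zero (h0 ▸ by norm_num : {v : V | v ≠ 0}.ncard ≠ 0)
  have h4 := Set.ncard_sdiff (Set.union_subset (h1 v hv) (h1 _ (neg_ne_zero.2 hv)))
  rw [h0, h2 v hv, h3 v hv] at h4
  obtain ⟨w, hw, h5⟩ := Set.nonempty_of_ncard_ne_zero (h4.trans_ne (by norm_num))
  have h6 : MulAction.orbit G w ⊆ {v : V | v ≠ 0} \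
      (MulAction.orbit G v ∪ MulAction.orbit G (-v)) := by
    rintro _ ⟨g, rfl⟩
    refine ⟨h1 w hw ⟨g, rfl⟩, fun e => h5 (e.imp ?_ ?_)⟩ <;>
      exact fun ⟨a, ha⟩ => ⟨g⁻¹ * a, by simp only [mul_smul]; exact inv_smul_eq_iff.2 ha⟩
  have h7 := Set.ncard_le_ncard h6
  rw [h4, h3 w hw] at h7
  omega

theorem card_ne_nine (hG : Odd (Nat.card G)) (h : Irr G V) : Nat.card V ≠ 9 := fun hV => by
  obtain ⟨v, hv, h1⟩ := exists_fix_nine hG hV
  obtain ⟨p, hp, h2, h3⟩ := h.exists_prime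
  have h4 := (h.2 (AddSubgroup.zmultiples v) (by
    rintro g _ ⟨n, rfl⟩
    exact ⟨n, ((map_zsmul (DistribSMul.toAddMonoidHom V g) n v).trans
      (congrArg _ (h1 g))).symm⟩)).resolve_left (by simpa using hv)
  have h5 := addOrderOf_dvd_of_nsmul_eq_zero (h3 v)
  rw [← Nat.card_zmultiples, h4, AddSubgroup.card_top, hV] at h5
  exact absurd (((Nat.dvd_prime hp).1 h5).resolve_left (by norm_num) ▸ hp) (by norm_num)

omit [Finite V] in
theorem lv_of_im {j : ℕ} (h : @Lv (Im G V) _ ⊤ V (imAct G V).toMulAction j) :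
    Lv (⊤ : Subgroup G) V j :=
  @Lv.comp G (Im G V) _ _ V _ ⊤ (imAct G V).toMulAction ⊤ j h
    (MulAction.toPermHom G V).rangeRestrict (fun _ _ => rfl) fun _ _ => trivial

theorem card_eq_pow (h : Irr G V) : ∃ p k : ℕ, p.Prime ∧ Nat.card V = p ^ k := by
  obtain ⟨p, hp, -, h1⟩ := h.exists_prime
  have := Fact.mk hp
  obtain ⟨k, -, hk⟩ := exists_coords h1
  exact ⟨p, k, hp, hk⟩

end Nine

section Setup

variable {K V : Type*} {Γ : Type u} [Field K] [AddCommGroup V] [Module K V] [Group Γ]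
  [DistribMulAction Γ V] [Nontrivial V] [Finite K] [Finite Γ] {S : Setup K V Γ}
  {N : Subgroup Γ} (h : Big S N) {Ω : Type*} [AddCommGroup Ω] [Finite Ω]
  [DistribMulAction (⊤ : Subgroup Γ) Ω] {pr : Γ → Ω} (s : Sec N S.U ⊤ pr)
  {B : Ω →+ Ω →+ Additive Kˣ} (hB : ∀ a ∈ N, ∀ b ∈ N, B (pr a) (pr b) = Additive.ofMul (S.cm a b))

omit [Finite Γ] in
include h s hB in
theorem odd_im (ho : Odd S.U.index) {X : Type*} [MulAction (⊤ : Subgroup Γ) X]
    (hX : ∀ g : (⊤ : Subgroup Γ), (∀ ω : Ω, g • ω = ω) → ∀ x : X, g • x = x) :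
    Odd (Nat.card (MulAction.toPermHom (⊤ : Subgroup Γ) X).range) := by
  rw [← index_ker]
  refine ho.of_dvd_nat (Dvd.dvd.trans (index_dvd_of_le (H := S.U.subgroupOf ⊤) fun g hg =>
    Equiv.ext (hX g ((h.smul_eq_iff s hB g (U_le_A hg)).2 (h.U_le hg)))) ?_)
  rw [← relIndex, relIndex_top_right]

omit [Finite Γ] in
include h s hB in
theorem odd_res (ho : Odd S.U.index) {T : AddSubgroup Ω} (hT : Inv (⊤ : Subgroup Γ) T) :
    Odd (Nat.card (@Im _ T _ _ (resAct hT))) :=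
  @odd_im K V Γ _ _ _ _ _ _ _ S N h Ω _ _ _ pr s B hB ho T (resAct hT).toMulAction
    fun _ hg x => Subtype.ext (hg x)

omit [Finite Γ] in
include h s hB in
theorem res_ne_nine (ho : Odd S.U.index) {T : AddSubgroup Ω} (hT : Inv (⊤ : Subgroup Γ) T)
    (hi : @Irr _ _ T _ (resAct hT)) : Nat.card T ≠ 9 := by
  let _ := resAct hT
  exact @card_ne_nine _ T _ _ (imAct _ T) _ (odd_res h s hB ho hT) (Irr.im hi)

include h s hB in
theorem odd_e (ho : Odd S.U.index) {e : ℕ} (he : Nat.card Ω = e * e) : Odd e ∧ e ≠ 3 := by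
  refine ⟨ho.of_dvd_nat ⟨e * N.index, ?_⟩, fun e3 => ?_⟩
  · refine Nat.eq_of_mul_eq_mul_right (Nat.card_pos (α := S.U)) ?_
    rw [index_mul_card, ← N.index_mul_card, card_N h s, card_U, he]
    ring
  · rw [e3] at he
    have : Nontrivial Ω := Finite.one_lt_card_iff_nontrivial.1 (by omega)
    obtain ⟨T, hT, -, hi⟩ := exists_irr (G := (⊤ : Subgroup Γ)) (Y := (⊤ : AddSubgroup Ω))
      (fun _ _ _ => trivial) top_ne_bot
    obtain ⟨m, hm⟩ := (h.symp s hB).card_inv hT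
    have h1 : Nat.card T ≤ 9 := T.card_le_card_addGroup.trans he.le
    have h2 : Nat.card T ∣ 9 := T.card_addSubgroup_dvd_card.trans (dvd_of_eq he)
    have h3 := res_ne_nine h s hB ho hT hi
    have h4 : 1 < Nat.card T := have := hi.1; Finite.one_lt_card
    rw [hm] at h1 h2 h3 h4
    have h5 : m ≤ 3 := by nlinarith
    interval_cases m <;> omega

theorem A_le_U_odd [Finite V] [Group.IsSolvable Γ] (S : Setup K V Γ) (ho : Odd S.U.index)
    (h6 : Module.finrank K V ≤ 6) (h5 : 5 ≤ Module.finrank K V → Nat.card K ≤ 5) :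
    S.A ≤ S.U := by
  obtain ⟨N, Ω, _, _, _, pr, B, e, hN, s, hB, h1, h2, h3, h4⟩ := exists_data S
  obtain ⟨⟨k, hk⟩, h7⟩ := odd_e hN s hB ho h1
  have e1 : e = 1 := by
    by_contra h8
    have h9 : e = 5 := by omega
    exact absurd (lt_card_K (h4 5 Nat.prime_five (h9 ▸ dvd_rfl))) (not_lt.2 (h5 (h9 ▸ h3)))
  rw [e1] at h1
  have := (Nat.card_eq_one_iff_unique.1 h1).1
  exact fun g hg => (s.eq_zero g ((hN.smul_eq_iff s hB ⟨g, trivial⟩ hg).1 fun _ =>
    Subsingleton.elim _ _)).1 (Subsingleton.elim _ _)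

end Setup

theorem exists_mul_eq {a n r k : ℕ} (hr : r.Prime) (hk : k ≠ 0) (h : a ^ n = r ^ k) :
    ∃ f, a = r ^ f ∧ f * n = k := by
  have hn : n ≠ 0 := by
    rintro rfl
    exact (Nat.one_lt_pow hk hr.one_lt).ne (by rw [← h, pow_zero])
  obtain ⟨f, -, rfl⟩ := (Nat.dvd_prime_pow hr).1 (h ▸ dvd_pow_self a hn)
  exact ⟨f, rfl, Nat.pow_right_injective hr.two_le (by simpa [pow_mul] using h)⟩

variable {G V : Type u} [Group G] [Finite G] [AddCommGroup V] [Finite V] [DistribMulAction G V]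

theorem odd_blocks (hG : Group.IsSolvable G) (ho : Odd (Nat.card G)) (h : Irr G V)
    (hpr : ¬ Prim G V) {r k : ℕ} (hr : r.Prime) (hk : k ≠ 0) (hV : Nat.card V = r ^ k) :
    ∃ j s, j * s = k ∧ Odd s ∧ 2 ≤ s ∧ r ^ j ≠ 9 := by
  obtain ⟨H, W, W', hH, hW, hd, hout, hW0⟩ := exists_blocks h hpr
  obtain ⟨j, h1, h2⟩ := exists_mul_eq hr hk
    ((le_antisymm (pow_le_card hd hout) (card_le_pow h hW hW0)).trans hV)
  let _ := resAct hW
  exact ⟨j, _, h2, ho.of_dvd_nat H.index_dvd_card, (index_core_le hG hH).1,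
    h1 ▸ card_ne_nine (ho.of_dvd_nat H.card_subgroup_dvd_card) (irr_block h hW hd hout hW0)⟩

theorem lv_odd (hG : Group.IsSolvable G) (ho : Odd (Nat.card G)) (h : Irr G V) {r k : ℕ}
    (hr : r.Prime) (hk : k ∣ 4) (hV : Nat.card V = r ^ k) : Lv (⊤ : Subgroup G) V 1 := by
  have := h.1
  have k0 : k ≠ 0 := fun e => by rw [e] at hk; omega
  have key : ∀ s, s ∣ k → Odd s → s = 1 := fun s h1 h2 =>
    Nat.eq_one_of_dvd_coprimes (Nat.Coprime.pow_left 2 (Nat.coprime_two_left.2 h2)) (h1.trans hk)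
      dvd_rfl
  by_cases hpr : Prim G V
  · obtain ⟨K, _, _, _, Γ, _, _, _, _, _, S, h1, φ, hφ⟩ := hpr.exists_setup
    refine Lv.comp (L := ⊤) (Lv.of_le_bot (D_le_bot (S := S) (j := 0) ?_)) φ hφ fun _ _ => trivial
    obtain ⟨f, h2, h3⟩ := exists_mul_eq hr k0
      ((Module.natCard_eq_pow_finrank (K := K) (V := V)).symm.trans hV)
    have h4 : Module.finrank K V ≤ 4 :=
      Nat.le_of_dvd (by norm_num) ((Dvd.intro_left _ h3).trans hk)
    have h5 := A_le_U_odd S (ho.of_dvd_nat h1) (by omega) (by omega)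
    have h6 := index_A_dvd S hr h2
    rw [le_antisymm h5 U_le_A] at h6
    exact (index_eq_one.1 (key _ (h6.trans (Dvd.intro _ h3)) (ho.of_dvd_nat h1))).ge
  · obtain ⟨j, s, h1, h2, h3, -⟩ := odd_blocks hG ho h hpr hr k0 hV
    exact absurd (key s (Dvd.intro_left _ h1) h2) (by omega)

theorem card_odd (hG : Group.IsSolvable G) (ho : Odd (Nat.card G)) (h : Irr G V)
    (hV : Nat.card V = 3 ^ 6) : Nat.card ((D ⊤ 1).map (MulAction.toPermHom G V)) ≤ 91 := by
  have := h.1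
  by_cases hpr : Prim G V
  · obtain ⟨K, _, _, _, Γ, _, _, _, _, _, S, h1, φ, hφ⟩ := hpr.exists_setup
    have h7 := (Module.natCard_eq_pow_finrank (K := K) (V := V)).symm.trans hV
    obtain ⟨f, h2, h3⟩ := exists_mul_eq Nat.prime_three (by norm_num) h7
    have h4 : Module.finrank K V ≤ 6 := Nat.le_of_dvd (by norm_num) (Dvd.intro_left _ h3)
    have h5 := A_le_U_odd S (ho.of_dvd_nat h1) h4 fun h6 => by
      have : f ≤ 1 := by nlinarith
      exact h2.trans_le ((Nat.pow_le_pow_right (by norm_num) this).trans (by norm_num))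
    have h6 : (D ⊤ 1).map (MulAction.toPermHom G V) ≤ S.U.map (MulAction.toPermHom Γ V) := by
      rintro _ ⟨g, hg, rfl⟩
      exact ⟨φ g, h5 (D_one_le_A S (D_map φ (fun _ _ => mem_top _) 1 g hg)), Equiv.ext (hφ g)⟩
    have h8 := (card_dvd_of_le h6).trans (card_map_dvd _ _)
    rw [card_U] at h8
    replace h8 := h8.trans (Nat.sub_one_dvd_pow_sub_one _ (Module.finrank K V))
    rw [h7] at h8
    refine Nat.le_of_dvd (by norm_num) (Nat.Coprime.dvd_of_dvd_mul_left (m := 2 ^ 3)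
      (Nat.Coprime.pow_right 3 (Nat.coprime_two_right.2 (ho.of_dvd_nat
        ((card_map_dvd _ _).trans (card_subgroup_dvd_card _))))) h8)
  · obtain ⟨j, s, h1, ⟨t, h2⟩, h3, h4⟩ := odd_blocks hG ho h hpr Nat.prime_three (by norm_num) hV
    have h5 : s ≤ 6 := Nat.le_of_dvd (by norm_num) (Dvd.intro_left _ h1)
    have h6 : j = 2 := by interval_cases s <;> omega
    exact absurd (by rw [h6]; rfl) h4

end Cfsg.Lib.VecC
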