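import Cfsg.Agent.VecC.Fix

/-! A vector whose stabilizer has derived length at most nine. -/

set_option autoImplicit false

namespace Cfsg.Lib.VecC

open Subgroup Cfsg.Lib.Base Cfsg.Lib.Base.Setup Cfsg.Lib.KCl

universe u

theorem pow_step {n : ℕ} (h : 64 ≤ n) : (n + 1) ^ 32 ≤ 3 * n ^ 32 := by
  have h1 : (64 * (n + 1)) ^ 32 ≤ (65 * n) ^ 32 := Nat.pow_le_pow_left (by omega) 32
  rw [mul_pow, mul_pow] at h1
  refine Nat.le_of_mul_le_mul_left (h1.trans ?_) (by norm_num : 0 < 64 ^ 32)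
  rw [← mul_assoc]
  exact Nat.mul_le_mul_right _ (by norm_num)

theorem pow_bound {a c n q : ℕ} (hn : 64 ≤ n) (hc : 3 ≤ c) (hq : c ≤ q)
    (h : a * n ^ 32 * c ^ 4 ≤ c ^ n) {e : ℕ} (he : n ≤ e) : a * (q * e ^ 8) ^ 4 ≤ q ^ e := by
  have h1 : a * e ^ 32 * c ^ 4 ≤ c ^ e := by
    induction e, he using Nat.le_induction with
    | base => exact h
    | succ m hm ih =>
      calc _ ≤ a * (c * m ^ 32) * c ^ 4 := Nat.mul_le_mul_right _ (Nat.mul_le_mul_left _
            ((pow_step (hn.trans hm)).trans (Nat.mul_le_mul_right _ hc)))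
        _ = a * m ^ 32 * c ^ 4 * c := by ring
        _ ≤ _ := Nat.mul_le_mul_right _ ih
  obtain ⟨t, rfl⟩ := Nat.exists_eq_add_of_le' (by omega : 4 ≤ e)
  rw [pow_add] at h1 ⊢
  have h2 := (Nat.le_of_mul_le_mul_right h1 (by positivity)).trans (Nat.pow_le_pow_left hq t)
  calc _ = a * (t + 4) ^ 32 * q ^ 4 := by ring
    _ ≤ _ := Nat.mul_le_mul_right _ h2

theorem num_free {t X q g v m : ℕ} (h1 : t ≤ X) (h2 : q ≤ X) (h0 : 0 < X) (h3 : g ≤ q * t)
    (h4 : 16 * X ^ 4 ≤ v) (h5 : m ^ 4 ≤ v ^ 3) : t * m + 4 * g < v := by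
  have a1 : 2 * X * m ≤ v := (Nat.pow_le_pow_iff_left (by norm_num : 4 ≠ 0)).1 (by
    calc _ = 16 * X ^ 4 * m ^ 4 := by ring
      _ ≤ v * v ^ 3 := Nat.mul_le_mul h4 h5
      _ = _ := by ring)
  have a2 : g ≤ X ^ 4 := calc
    g ≤ X * X := h3.trans (Nat.mul_le_mul h2 h1)
    _ = X ^ 2 := by ring
    _ ≤ _ := Nat.pow_le_pow_right h0 (by norm_num)
  have a3 : t * m ≤ X * m := Nat.mul_le_mul_right _ h1
  have a4 : 0 < X ^ 4 := by positivity
  nlinarith

theorem num_mid {t q g e v : ℕ} (hq : 3 ≤ q) (h1 : 64 ≤ e) (h2 : e < 256) (ht : t ≤ q * e ^ 8)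
    (h3 : g ≤ q * t) (h4 : q ^ e ≤ v) : 4 * g < v - 1 := by
  have a1 : e ^ 8 ≤ 256 ^ 8 := Nat.pow_le_pow_left h2.le 8
  have a2 : q ^ 2 * 3 ^ 62 ≤ v := calc
    _ ≤ q ^ 2 * q ^ 62 := Nat.mul_le_mul_left _ (Nat.pow_le_pow_left hq 62)
    _ = q ^ 64 := by ring
    _ ≤ _ := (Nat.pow_le_pow_right (by omega) h1).trans h4
  have a3 : g ≤ q ^ 2 * 256 ^ 8 := calc
    _ ≤ q * (q * 256 ^ 8) := h3.trans (Nat.mul_le_mul_left _ (ht.trans (Nat.mul_le_mul_left _ a1)))
    _ = _ := by ring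
  have a4 : 0 < q ^ 2 := by positivity
  omega

section Setup

variable {K : Type*} {V Γ : Type u} [Field K] [AddCommGroup V] [Module K V] [Group Γ]
  [DistribMulAction Γ V] [Nontrivial V] [Finite K] [Finite V] [Finite Γ] [Group.IsSolvable Γ]
  {S : Setup K V Γ} {N : Subgroup Γ}

omit [Finite V] in
theorem card_A_le (h : Big S N) {Ω : Type u} [AddCommGroup Ω] [Finite Ω]
    [DistribMulAction (⊤ : Subgroup Γ) Ω] {pr : Γ → Ω} (s : Sec N S.U ⊤ pr)
    {B : Ω →+ Ω →+ Additive Kˣ}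
    (hB : ∀ a ∈ N, ∀ b ∈ N, B (pr a) (pr b) = Additive.ofMul (S.cm a b)) {e : ℕ}
    (he : Nat.card Ω = e * e) : Nat.card S.A ≤ (Nat.card K - 1) * e ^ 8 := by
  obtain ⟨x, hx⟩ := (concl_of_primCase primCase inferInstance (h.symp s hB).cr).1
  have h1 := card_im_le_of_base hx (fun _ => Set.univ) fun _ _ => trivial
  rw [Finset.prod_const, Nat.card_univ, he, Finset.card_univ, Fintype.card_fin] at h1
  calc _ ≤ _ := card_le_mul h s hB le_rfl (Im (⊤ : Subgroup Γ) Ω) fun g _ => ⟨_, rfl⟩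
    _ ≤ (Nat.card K - 1) * (e * e) * (e * e) ^ 3 := by rw [he]; exact Nat.mul_le_mul_left _ h1
    _ = _ := by ring

theorem tri_setup [FaithfulSMul Γ V] (S : Setup K V Γ) (hi : Irr Γ V) : Tri Γ V := by
  obtain ⟨N, Ω, _, _, _, pr, B, e, hN, s, hB, h1, h2, h4, h5⟩ := exists_data S
  have hd : ∀ d, 1 ≤ d → dd (e * e) ≤ d → e < 256 → D ⊤ d ≤ N := fun d a b c =>
    D_le_N hN s hB ((lv_cr inferInstance (hN.symp s hB).cr (by rw [h1]; nlinarith)).mono
      (h1 ▸ b)) a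
  by_cases c1 : e < 8
  · exact Or.inl (ty_A (Lv.of_le_bot (D_le_bot (D_le_U hN (hd 4 (by norm_num)
      (dd_mono (by nlinarith : e * e ≤ 49)) (by omega))))))
  by_cases c2 : e < 64
  · by_cases ht : ∀ v w : V, v ≠ 0 → w ≠ 0 → ∃ g : Γ, g • v = w
    · exact Or.inl (ty_A (lv_of_trans inferInstance hi ht))
    push Not at ht
    obtain ⟨v, w, hv, hw, ht⟩ := ht
    have h6 := hd 6 (by norm_num) (dd_mono (by nlinarith : e * e ≤ 3969)) (by omega)
    refine Or.inr (Or.inl ⟨![0, v, w], fun i j g hg => ?_, fun i => ?_⟩)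
    · fin_cases i <;> fin_cases j
      · rfl
      · exact absurd ((smul_zero g).symm.trans hg).symm hv
      · exact absurd ((smul_zero g).symm.trans hg).symm hw
      · exact absurd ((smul_eq_zero_iff_eq g).1 hg) hv
      · rfl
      · exact absurd hg (ht g)
      · exact absurd ((smul_eq_zero_iff_eq g).1 hg) hw
      · exact absurd (inv_smul_eq_iff.2 (Eq.symm hg)) (ht g⁻¹)
      · rfl
    · fin_cases i
      · exact Lv.of_le_bot (D_le_bot (D_le_U hN h6))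
      · exact lv_stab hN h6 hv
      · exact lv_stab hN h6 hw
  have h6 := three_le_card_K (by omega) h5
  have h7 := pow_le_card_V h4
  have h8 : Nat.card S.A ≤ Nat.card K * e ^ 8 :=
    (card_A_le hN s hB h1).trans (Nat.mul_le_mul_right _ (Nat.sub_le _ _))
  have h9 : Nat.card Γ ≤ Nat.card K * Nat.card S.A := by
    rw [← S.A.index_mul_card]
    exact Nat.mul_le_mul_right _ (index_A_lt S).le
  refine Or.inr (Or.inr ?_)
  by_cases c3 : e < 256
  · obtain ⟨z, hz, h10⟩ := exists_ineq (G := Γ) {v : V | v ≠ 0} (k := 4)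
      ((num_mid h6 (by omega) c3 h8 h9 h7).trans_eq (card_ne_zero_set V).symm)
    exact ⟨z, h10, fun i => lv_stab hN (hd 8 (by norm_num) (by unfold dd; split_ifs <;> omega) c3)
      (hz i)⟩
  have h10 : ∀ m, m ^ 4 ≤ Nat.card V ^ 3 → Nat.card S.A * m + 4 * Nat.card Γ < Nat.card V :=
    fun m => num_free h8 (Nat.le_mul_of_pos_right _ (by positivity)) (by positivity) h9
      ((pow_bound (n := 256) (by norm_num) le_rfl h6 (by norm_num) (by omega)).trans h7)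
  obtain ⟨z, hz, h11⟩ := exists_ineq (G := Γ) _ (lt_card_free S S.A
    (by simpa using h10 1 (Nat.one_le_pow _ _ Nat.card_pos)) fun g hg hU => h10 _ (fx_A hN s hB hg hU))
  exact ⟨z, h11, fun i => (Lv.of_le_bot (j := 1) fun g hg =>
    (hz i).2 g (D_one_le_A S (D_mono le_top 1 hg)) (D_le _ _ hg)).mono (by norm_num)⟩

end Setup

theorem tri_aux (n : ℕ) : ∀ (G V : Type u) [Group G] [Finite G] [AddCommGroup V] [Finite V]
    [DistribMulAction G V], Nat.card V = n → Group.IsSolvable G → Irr G V → Tri G V := by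
  induction n using Nat.strong_induction_on with
  | _ n ih =>
  intro G V _ _ _ _ _ hn hG h
  have := h.1
  by_cases hpr : Prim G V
  · obtain ⟨K, _, _, _, Γ, _, _, _, _, _, S, -, φ, hφ⟩ := hpr.exists_setup
    exact (tri_setup S ⟨h.1, fun U hU => h.2 U fun g v hv => hφ g v ▸ hU _ v hv⟩).imp
      (·.comp φ hφ) (Or.imp (·.comp φ hφ) (·.comp φ hφ))
  obtain ⟨H, W, W', hH, hW, hd, hout, hW0⟩ := exists_blocks h hpr
  let _ := resAct hW
  exact tri_step hG hH h hW hd hout hW0 (ih _ (hn ▸ card_block_lt hH.1 hd hout hW0) H W rfl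
    inferInstance (irr_block h hW hd hout hW0))

theorem exists_nine {G V : Type u} [Group G] [Finite G] [AddCommGroup V] [Finite V]
    [DistribMulAction G V] (hG : Group.IsSolvable G) (h : CR G V) :
    ∃ v : V, Lv (MulAction.stabilizer G v) V 9 := by
  refine exists_vec h fun T hT hi => ?_
  let _ := resAct hT
  obtain ⟨t, ht⟩ : ∃ t : T, Lv (MulAction.stabilizer G t) T 9 := by
    rcases tri_aux _ G T rfl hG hi with ⟨z, -, h1⟩ | ⟨z, -, h1⟩ | ⟨z, -, h1⟩
    · exact ⟨z 0, (h1 0).mono (by decide)⟩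
    · exact ⟨z 0, (h1 0).mono (by decide)⟩
    · exact ⟨z 0, h1 0⟩
  exact ⟨t, t.2, fun g hg w hw => congrArg Subtype.val
    (ht.anti (fun a ha => Subtype.ext ha) g hg ⟨w, hw⟩)⟩

end Cfsg.Lib.VecC
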